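import Cfsg.Agent.H12.DL.Idem
import Cfsg.Agent.H58.DL.Planes

/-!
The local theorem for the bound of the 2-length by the derived length (S4259): from a ground vector
of a plane decomposition to the three facts about the last derived subgroups.
-/

set_option autoImplicit false
set_option linter.all false

namespace H51.DL

open Module H51.Bryu H12.DL
open scoped commutatorElement

universe u v w x

variable {r : ℕ} [Fact r.Prime] {K : Type v} [Field K] {X : Type w} [AddCommGroup X]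
  [Module (ZMod r) X] {E : Type x} [AddCommGroup E] [Module K E] {G : Type u} [Group G]

/-- What is used of the frame: a fixed ground vector and the chain claim for a fixed plane. -/
structure Ground (H : Heis r K X E G) (s : Finset (Submodule (ZMod r) X)) (Kc : ℕ → Submodule K E)
    (φ : E) (e : ℕ) : Prop where
  ne : φ ≠ 0
  fix : ∀ g, H.op g φ = φ
  bot : Kc 0 = ⊥
  top : Kc e = ⊤
  step : ∀ j, ∀ g ∈ derivedSeries G j, ∀ v ∈ Kc (j + 1), H.op g v - v ∈ Kc j
  corner : ∀ P ∈ s, ∃ f, H.Corner P f ∧ f φ = φ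
  claim : ∀ P ∈ s, ∀ j, (∀ g ∈ derivedSeries G j, ∀ a ∈ P, H.act g a ∈ P) →
    (j = 0 ∨ ∃ g ∈ derivedSeries G (j - 1), ∃ a ∈ P, H.act g a ∉ P) →
    ∀ y ∈ H.A P, y φ ∈ Kc j → ∃ c : K, y φ = c • φ

variable {H : Heis r K X E G} {s : Finset (Submodule (ZMod r) X)}

theorem plane_nondeg (hs : PlaneDec H.F H.act s) {P : Submodule (ZMod r) X} (hP : P ∈ s) :
    ∀ a ∈ P, (∀ b ∈ P, H.F.b a b = 1) → a = 0 := by
  intro a ha hab
  refine H.F.nondeg a fun z => ?_
  let S : Submodule (ZMod r) X :=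
    { carrier := {y | H.F.b a y = 1}
      zero_mem' := H.F.zero_right a
      add_mem' := fun {y y'} hy hy' => by
        show H.F.b a (y + y') = 1
        rw [H.F.add_right, show H.F.b a y = 1 from hy, show H.F.b a y' = 1 from hy', one_mul]
      smul_mem' := fun c y hy => by
        show H.F.b a (c • y) = 1
        rw [H.F.smul_right, show H.F.b a y = 1 from hy, one_pow] }
  have hle : s.sup id ≤ S := Finset.sup_le fun Q hQ y hy => by
    rcases eq_or_ne P Q with rfl | hne
    · exact hab y hy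
    · exact hs.orth P hP Q hQ hne a ha y hy
  exact hle (hs.top ▸ Submodule.mem_top : z ∈ s.sup id)

theorem op_comm_fix (H : Heis r K X E G) {g h : G} {v : E}
    (key : H.op g⁻¹ (H.op h⁻¹ v) = H.op h⁻¹ (H.op g⁻¹ v)) : H.op ⁅g, h⁆ v = v := by
  rw [commutatorElement_def, map_mul, map_mul, map_mul, Module.End.mul_apply, Module.End.mul_apply,
    Module.End.mul_apply, key, ← Module.End.mul_apply (H.op h), H.op_mul_inv, Module.End.one_apply,
    ← Module.End.mul_apply, H.op_mul_inv, Module.End.one_apply]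

theorem zmod_three_pow (c : ZMod 3) : c = 0 ∨ c * c * c * c = 1 := by revert c; decide

theorem zmod_three_sys (z : ZMod 3) (h1 : z * 2 * z + 2 * 2 + 1 = 0)
    (h2 : (z * z + 2) * z + 2 * z = 0) : False := by revert z; decide

theorem act_eq_one (hs : PlaneDec H.F H.act s) {g : G} (h : ∀ P ∈ s, ∀ a ∈ P, H.act g a = a) :
    H.act g = 1 := by
  refine LinearEquiv.ext fun z => ?_
  have hle : s.sup id ≤ LinearMap.eqLocus (H.act g).toLinearMap LinearMap.id :=
    Finset.sup_le fun P hP a ha => h P hP a ha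
  exact hle (hs.top ▸ Submodule.mem_top : z ∈ s.sup id)

theorem act_mul_apply (g h : G) (a : X) : H.act (g * h) a = H.act g (H.act h a) := by
  rw [map_mul, LinearEquiv.mul_apply]

theorem act_pow_mem {g : G} {P : Submodule (ZMod r) X} (hg : ∀ a ∈ P, H.act g a ∈ P) :
    ∀ n : ℕ, ∀ a ∈ P, H.act (g ^ n) a ∈ P := by
  intro n
  induction n with
  | zero => intro a ha; rwa [pow_zero, map_one]
  | succ n ih => intro a ha; rw [pow_succ, act_mul_apply]; exact ih _ (hg a ha)

theorem act_two_pow {g : G} (k : ℕ) (a : X) :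
    H.act (g ^ 2 ^ (k + 1)) a = H.act (g ^ 2 ^ k) (H.act (g ^ 2 ^ k) a) := by
  rw [← act_mul_apply, ← pow_add, ← two_mul, ← pow_succ']

variable [Finite G] [Finite X]

/-- An element that is nontrivial on a plane has a power that is `-1` there. -/
theorem exists_neg (hr2 : r ≠ 2) (hG : IsPGroup 2 G) (hs : PlaneDec H.F H.act s)
    {P : Submodule (ZMod r) X} (hP : P ∈ s) {g : G} (hgP : ∀ a ∈ P, H.act g a ∈ P)
    (hne : ∃ a ∈ P, H.act g a ≠ a) :
    ∃ k, ∀ a ∈ P, H.act (g ^ 2 ^ k) a = -a := by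
  classical
  obtain ⟨n, hn⟩ := hG g
  have hex : ∃ k, ∀ a ∈ P, H.act (g ^ 2 ^ k) a = a := ⟨n, fun a _ => by rw [hn, map_one]; rfl⟩
  have hspec := Nat.find_spec hex
  obtain ⟨k, hk⟩ : ∃ k, Nat.find hex = k + 1 := by
    rcases Nat.eq_zero_or_eq_succ_pred (Nat.find hex) with h0 | h0
    · rw [h0, pow_zero, pow_one] at hspec
      obtain ⟨a, ha, hna⟩ := hne
      exact absurd (hspec a ha) hna
    · exact ⟨_, h0⟩
  rw [hk] at hspec
  refine ⟨k, (H58.DL.neg_or_id hr2 H.F P (hs.rank P hP) (plane_nondeg hs hP) (H.act_iso _)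
    (act_pow_mem hgP _) fun a ha => by rw [← act_two_pow]; exact hspec a ha).resolve_left ?_⟩
  exact fun h => Nat.find_min hex (by omega : k < Nat.find hex) h

/-- On a plane over three elements the fourth powers are trivial. -/
theorem pow_four (hs : PlaneDec H.F H.act s) (hG : IsPGroup 2 G) (hr : r = 3)
    {P : Submodule (ZMod r) X} (hP : P ∈ s) {g : G} (hgP : ∀ a ∈ P, H.act g a ∈ P) :
    ∀ a ∈ P, H.act (g * g) (H.act (g * g) a) = a := by
  classical
  subst hr
  by_contra hcon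
  push Not at hcon
  obtain ⟨a₁, ha₁, hne⟩ := hcon
  have e4 : ∀ (q : G) (a : X), H.act (q ^ 2 ^ 2) a = H.act q (H.act q (H.act q (H.act q a))) := by
    intro q a
    rw [show (2 : ℕ) ^ 2 = 1 + 1 + 1 + 1 by rfl, pow_succ, pow_succ, pow_succ, pow_one,
      act_mul_apply, act_mul_apply, act_mul_apply]
  have hg4 : ∃ a ∈ P, H.act (g ^ 2 ^ 2) a ≠ a := ⟨a₁, ha₁, by
    rw [e4, ← act_mul_apply g g, ← act_mul_apply g g]; exact hne⟩
  obtain ⟨k, hk⟩ := exists_neg (by norm_num) hG hs hP (act_pow_mem hgP _) hg4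
  rw [← pow_mul, mul_comm, pow_mul] at hk
  let q := g ^ 2 ^ k
  have hqP : ∀ a ∈ P, H.act q a ∈ P := act_pow_mem hgP _
  have hq : ∀ a ∈ P, H.act q (H.act q (H.act q (H.act q a))) = -a := fun a ha => by
    rw [← e4]; exact hk a ha
  haveI : FiniteDimensional (ZMod 3) P := Module.finite_of_finrank_eq_succ (hs.rank P hP)
  obtain ⟨a, ha, ha0⟩ := (Submodule.ne_bot_iff P).mp fun h => by
    have := hs.rank P hP; rw [h, finrank_bot] at this; omega
  have h2 : ∀ z : X, z = -z → z = 0 := fun z => eq_self_of_eq_neg (r := 3) (by norm_num)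
  have hli : LinearIndependent (ZMod 3) ![a, H.act q a] := by
    rw [LinearIndependent.pair_iff' ha0]
    intro c hc
    have h1 := hq a ha
    rw [← hc, map_smul, ← hc, smul_smul, map_smul, ← hc, smul_smul, map_smul, ← hc, smul_smul] at h1
    rcases zmod_three_pow c with h0 | h0
    · rw [h0, zero_smul] at hc
      exact ha0 ((H.act q).injective (hc.symm.trans (map_zero _).symm))
    · rw [h0, one_smul] at h1
      exact ha0 (h2 a h1)
  have hspan : Submodule.span (ZMod 3) (Set.range ![a, H.act q a]) = P := by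
    refine Submodule.eq_of_le_of_finrank_le (Submodule.span_le.mpr ?_) ?_
    · rintro _ ⟨i, rfl⟩; fin_cases i
      · exact ha
      · exact hqP a ha
    · rw [hs.rank P hP, finrank_span_eq_card hli, Fintype.card_fin]
  obtain ⟨c, hc⟩ : ∃ c : Fin 2 → ZMod 3, c 0 • a + c 1 • H.act q a = H.act q (H.act q a) := by
    have hm : H.act q (H.act q a) ∈ Submodule.span (ZMod 3) (Set.range ![a, H.act q a]) :=
      hspan.symm ▸ hqP _ (hqP a ha)
    rw [Submodule.mem_span_range_iff_exists_fun] at hm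
    obtain ⟨c, hc⟩ := hm
    exact ⟨c, by simpa [Fin.sum_univ_two] using hc⟩
  have hpr : H.F.b a (H.act q a) ≠ 1 := by
    intro h1
    refine ha0 (plane_nondeg hs hP a ha fun z hz => ?_)
    rw [← hspan, Submodule.mem_span_range_iff_exists_fun] at hz
    obtain ⟨d, rfl⟩ := hz
    rw [Fin.sum_univ_two, H.F.add_right, H.F.smul_right, H.F.smul_right]
    simp [H.F.self, h1]
  have hζ : IsPrimitiveRoot (H.F.b a (H.act q a)) 3 :=
    IsPrimitiveRoot.iff_orderOf.mpr (orderOf_eq_prime (H.F.pow_r _ _) hpr)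
  have hiso : H.F.b (H.act q a) (H.act q (H.act q a)) = H.F.b a (H.act q a) := H.act_iso q a _
  rw [← hc, H.F.add_right, H.F.smul_right, H.F.smul_right, H.F.self, one_pow, mul_one] at hiso
  have hsw := H.F.swap a (H.act q a)
  have hc0 : c 0 = 2 := by
    have e1 : H.F.b a (H.act q a) ^ (1 + (c 0).val * 1) = 1 → (3 : ℕ) ∣ 1 + (c 0).val * 1 :=
      hζ.dvd_of_pow_eq_one _
    have e2 : H.F.b a (H.act q a) ^ (1 + (c 0).val * 1) = 1 := by
      rw [mul_one, pow_add, pow_one]
      nth_rw 1 [← hiso]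
      rw [← mul_pow, mul_comm, hsw, one_pow]
    have h3 := e1 e2
    have hlt : (c 0).val < 3 := ZMod.val_lt _
    have hval : (c 0).val = 2 := by omega
    rw [← ZMod.natCast_zmod_val (c 0), hval]
    rfl
  have hrec : H.act q (H.act q a) = (2 : ZMod 3) • a + c 1 • H.act q a := by rw [← hc, hc0]
  have h4 := hq a ha
  simp only [hrec, map_add, map_smul] at h4
  have h5 : (c 1 * 2 * c 1 + 2 * 2 + 1) • a + ((c 1 * c 1 + 2) * c 1 + 2 * c 1) • H.act q a = 0 := by
    rw [← sub_eq_zero, sub_neg_eq_add] at h4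
    rw [← h4]
    module
  obtain ⟨h6, h7⟩ := LinearIndependent.pair_iff.mp hli _ _ h5
  exact zmod_three_sys _ h6 h7

variable [Nontrivial E]

theorem act_of_op {g : G} (h : H.op g = 1) : H.act g = 1 := by
  refine LinearEquiv.ext fun a => ?_
  obtain ⟨c, hc, he⟩ := H.conj_eps g a
  have hinv : H.op g⁻¹ = 1 := by
    have := H.op_inv_mul g
    rwa [h, mul_one] at this
  rw [H.conj_apply, h, hinv, mul_one, one_mul] at he
  show H.act g a = a
  rw [← sub_eq_zero]
  refine H.F.nondeg _ fun b => ?_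
  obtain ⟨d, hd, hde⟩ : ∃ d : K, d ≠ 0 ∧ H.eps (H.act g a) = d • H.eps a :=
    ⟨c⁻¹, inv_ne_zero hc, by rw [he, smul_smul, inv_mul_cancel₀ hc, one_smul]⟩
  have h1 := H.eps_comm (H.act g a) b
  rw [hde, smul_mul_assoc, H.eps_comm a b, mul_smul_comm, smul_smul, smul_smul, mul_comm _ d] at h1
  obtain ⟨v, hv⟩ := exists_ne (0 : E)
  have h2 := LinearMap.congr_fun h1 v
  rw [LinearMap.smul_apply, LinearMap.smul_apply] at h2
  have hne : (H.eps b * H.eps a) v ≠ 0 := fun h0 =>
    hv (H.eps_inj a ((H.eps_inj b (h0.trans (map_zero _).symm)).trans (map_zero _).symm))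
  have h3 := mul_left_cancel₀ hd (smul_left_injective K hne h2)
  have h4 := H.F.add_left (H.act g a - a) a b
  rw [sub_add_cancel, ← h3] at h4
  exact (mul_eq_right₀ (H.F.ne_zero a b)).mp h4.symm

variable {Kc : ℕ → Submodule K E} {φ : E} {e : ℕ} (Gr : Ground H s Kc φ e)
include Gr

theorem op_derived : ∀ g ∈ derivedSeries G e, H.op g = 1 := by
  suffices key : ∀ i, ∀ g ∈ derivedSeries G i, ∀ v ∈ Kc i, H.op g v = v from fun g hg =>
    LinearMap.ext fun v => key e g hg v (by rw [Gr.top]; trivial)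
  intro i
  induction i with
  | zero =>
    intro g _ v hv
    rw [Gr.bot, Submodule.mem_bot] at hv
    rw [hv, map_zero]
  | succ i ih =>
    have hle : derivedSeries G (i + 1) ≤
        ({ carrier := {g | ∀ v ∈ Kc (i + 1), H.op g v = v}
           one_mem' := fun v _ => by rw [map_one]; rfl
           mul_mem' := fun {g h} hg hh v hv => by
            rw [map_mul, Module.End.mul_apply, hh v hv, hg v hv]
           inv_mem' := fun {g} hg v hv => by
            conv_lhs => rw [← hg v hv]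
            rw [← Module.End.mul_apply, H.op_inv_mul]; rfl } : Subgroup G) := by
      rw [derivedSeries_succ, Subgroup.commutator_le]
      intro g hg h hh v hv
      refine op_comm_fix H ?_
      obtain ⟨a, ha, ea⟩ : ∃ a ∈ Kc i, H.op h⁻¹ v = v + a :=
        ⟨_, Gr.step i _ (inv_mem hh) v hv, (add_sub_cancel v _).symm⟩
      obtain ⟨b, hb, eb⟩ : ∃ b ∈ Kc i, H.op g⁻¹ v = v + b :=
        ⟨_, Gr.step i _ (inv_mem hg) v hv, (add_sub_cancel v _).symm⟩
      rw [ea, eb, map_add, map_add, ea, eb, ih _ (inv_mem hg) a ha, ih _ (inv_mem hh) b hb]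
      abel
    exact hle

theorem op_mem {P : Submodule (ZMod r) X} {g : G} (hg : ∀ a ∈ P, H.act g a ∈ P) {z : E}
    (hz : z ∈ (H.A P).map (LinearMap.applyₗ φ)) :
    H.op g z ∈ (H.A P).map (LinearMap.applyₗ φ) := by
  obtain ⟨y, hy, rfl⟩ := hz
  refine ⟨H.conj g y, H.conj_mem_A g hg hy, ?_⟩
  show H.conj g y φ = H.op g (y φ)
  rw [H.conj_apply_fixed y (Gr.fix g)]

variable [CharP K 2] [IsAlgClosed K] [FiniteDimensional K E]

/-- The span of a clock in the vectors of a plane. -/
theorem span_eq (hr2 : r ≠ 2) {P : Submodule (ZMod r) X} (hP : P ∈ s) {U V : Module.End K E} {ζ : K}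
    (hPC : H.PlaneClock P U V ζ) :
    ∃ f, f ≠ 0 ∧ U f = f ∧ cSpan r V f = (H.A P).map (LinearMap.applyₗ φ) := by
  obtain ⟨f₀, hf₀, hf₀φ⟩ := Gr.corner P hP
  let L : Submodule K E := (H.A P).map (LinearMap.applyₗ φ)
  have hinv : ∀ y ∈ H.A P, ∀ z ∈ L, y z ∈ L := by
    rintro y hy _ ⟨y', hy', rfl⟩
    exact ⟨y * y', H.mul_mem_A hy hy', rfl⟩
  have hφL : φ ∈ L := ⟨1, H.one_mem_A P, rfl⟩
  have hL : L ≠ ⊥ := fun h => Gr.ne (by rwa [h, Submodule.mem_bot] at hφL)
  obtain ⟨f, hfL, hf0, hUf⟩ := hPC.clock.exists_fixed hL (hinv U hPC.memU) (hinv V hPC.memV)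
  refine ⟨f, hf0, hUf, le_antisymm ?_ ?_⟩
  · rw [cSpan, Submodule.span_le]
    rintro _ ⟨i, rfl⟩
    exact hinv _ (H.pow_mem_A hPC.memV _) f hfL
  · have hI : ∀ y ∈ H.A P, ∀ z ∈ cSpan r V f, y z ∈ cSpan r V f := by
      intro y hy z hz
      induction hz using Submodule.span_induction with
      | mem w hw =>
        obtain ⟨i, rfl⟩ := hw
        have hy' := H.mul_mem_A hy (H.pow_mem_A hPC.memV (i : ℕ))
        show (y * V ^ (i : ℕ)) f ∈ _
        generalize y * V ^ (i : ℕ) = w at hy' ⊢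
        have hw := hPC.span hy'
        clear hy'
        induction hw using Submodule.span_induction with
        | mem p hp =>
          obtain ⟨⟨a, b⟩, rfl⟩ := hp
          have hb : ∀ b : ℕ, (U ^ b) f = f := by
            intro b
            induction b with
            | zero => simp
            | succ b ih => rw [pow_succ, Module.End.mul_apply, hUf, ih]
          show (V ^ (a : ℕ) * U ^ (b : ℕ)) f ∈ _
          rw [Module.End.mul_apply, hb]
          exact hPC.clock.mem_cSpan f a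
        | zero => exact zero_mem _
        | add p q _ _ hp hq => rw [LinearMap.add_apply]; exact add_mem hp hq
        | smul c p _ hp => rw [LinearMap.smul_apply]; exact Submodule.smul_mem _ c hp
      | zero => rw [map_zero]; exact zero_mem _
      | add p q _ _ hp hq => rw [map_add]; exact add_mem hp hq
      | smul c p _ hp => rw [map_smul]; exact Submodule.smul_mem _ c hp
    obtain ⟨z, hz, hz0⟩ := hf₀.hit _ (fun h => hf0 (by
      have := hPC.clock.self_mem_cSpan f
      rwa [h, Submodule.mem_bot] at this)) hI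
    obtain ⟨y, hy, hyz⟩ : z ∈ L := by
      refine (Submodule.span_le.mpr ?_ : cSpan r V f ≤ L) hz
      rintro _ ⟨i, rfl⟩
      exact hinv _ (H.pow_mem_A hPC.memV _) f hfL
    obtain ⟨c, hc⟩ := hf₀.corner y hy
    have hcz : f₀ z = c • φ := by
      have h1 := LinearMap.congr_fun hc φ
      rw [Module.End.mul_apply, Module.End.mul_apply, hf₀φ, LinearMap.smul_apply, hf₀φ,
        show y φ = z from hyz] at h1
      exact h1
    have hc0 : c ≠ 0 := fun h => hz0 (by rw [hcz, h, zero_smul])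
    have hφI : φ ∈ cSpan r V f := by
      have := hI f₀ hf₀.mem z hz
      rw [hcz] at this
      exact (Submodule.smul_mem_iff _ hc0).mp this
    rintro _ ⟨y', hy', rfl⟩
    exact hI y' hy' φ hφI

theorem finrank_L (hr2 : r ≠ 2) (hs : PlaneDec H.F H.act s) {P : Submodule (ZMod r) X}
    (hP : P ∈ s) : finrank K ((H.A P).map (LinearMap.applyₗ φ)) = r := by
  obtain ⟨U, V, ζ, hPC⟩ := H.exists_clock P (hs.rank P hP) (plane_nondeg hs hP)
  obtain ⟨f, hf0, hUf, hfs⟩ := span_eq Gr hr2 hP hPC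
  rw [← hfs, hPC.clock.finrank_cSpan hUf hf0]

/-- A small displacement leaves a fixed vector that is not a multiple of the ground vector. -/
theorem exists_fixed (hr2 : r ≠ 2) (hs : PlaneDec H.F H.act s) {P : Submodule (ZMod r) X}
    (hP : P ∈ s) {g : G}
    (h : ∀ z ∈ (H.A P).map (LinearMap.applyₗ φ), ∃ c : K, H.op g z - z = c • φ) :
    ∃ y ∈ H.A P, H.op g (y φ) = y φ ∧ ∀ c : K, y φ ≠ c • φ := by
  by_contra hcon
  push Not at hcon
  let L : Submodule K E := (H.A P).map (LinearMap.applyₗ φ)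
  let ψ : L →ₗ[K] E := (H.op g - 1).comp L.subtype
  have hrange : LinearMap.range ψ ≤ Submodule.span K {φ} := by
    rintro _ ⟨⟨z, hz⟩, rfl⟩
    obtain ⟨c, hc⟩ := h z hz
    exact Submodule.mem_span_singleton.mpr ⟨c, hc.symm⟩
  have hker : (LinearMap.ker ψ).map L.subtype ≤ Submodule.span K {φ} := by
    rintro _ ⟨⟨z, hz⟩, hk, rfl⟩
    obtain ⟨y, hy, rfl⟩ := hz
    obtain ⟨c, hc⟩ := hcon y hy (sub_eq_zero.mp hk)
    exact Submodule.mem_span_singleton.mpr ⟨c, hc.symm⟩
  have h1 := Submodule.finrank_mono hrange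
  have h2 := Submodule.finrank_mono hker
  rw [finrank_span_singleton Gr.ne] at h1 h2
  rw [Submodule.finrank_map_subtype_eq] at h2
  have h3 := LinearMap.finrank_range_add_finrank_ker ψ
  have h4 : finrank K L = r := finrank_L Gr hr2 hs hP
  have := (Fact.out : r.Prime).two_le
  omega

/-- An element that is `-1` on a plane and displaces little forces three elements. -/
theorem eq_three (hr2 : r ≠ 2) (hG : IsPGroup 2 G) (hs : PlaneDec H.F H.act s)
    {P : Submodule (ZMod r) X} (hP : P ∈ s) {g : G} (hg : ∀ a ∈ P, H.act g a = -a)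
    (h : ∀ z ∈ (H.A P).map (LinearMap.applyₗ φ), ∃ c : K, H.op g z - z = c • φ) : r = 3 := by
  obtain ⟨U, V, ζ, hPC, hU, hV⟩ := H.exists_clock_neg P (hs.rank P hP) (plane_nondeg hs hP) hg
  obtain ⟨f, hf0, hUf, hfs⟩ := span_eq Gr hr2 hP hPC
  have hgP : ∀ a ∈ P, H.act g a ∈ P := fun a ha => by rw [hg a ha]; exact neg_mem ha
  have hmem : H.op g f ∈ cSpan r V f := by
    rw [hfs]
    exact op_mem Gr hgP (hfs ▸ hPC.clock.self_mem_cSpan f)
  have hUj : ∀ j : ℕ, (U ^ j) f = f := by
    intro j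
    induction j with
    | zero => simp
    | succ j ih => rw [pow_succ, Module.End.mul_apply, hUf, ih]
  have hfixU : U (H.op g f) = H.op g f := by
    have h1 : H.conj g (U ^ (r - 1)) (H.op g f) = H.op g f := by rw [H.conj_op, hUj]
    rwa [H.conj_pow, hU, ← pow_mul, hPC.clock.pow_U_mod, pow_one] at h1
  obtain ⟨c, hc⟩ := hPC.clock.fixed_line hUf hf0 hmem hfixU
  have hTf : H.op g f = f := by
    obtain ⟨n, hn⟩ := hG g
    have hp : ∀ k : ℕ, H.op (g ^ k) f = c ^ k • f := by
      intro k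
      induction k with
      | zero => simp
      | succ k ih => rw [pow_succ, map_mul, Module.End.mul_apply, hc, map_smul, ih, smul_smul,
          pow_succ']
    have h1 := hp (2 ^ n)
    rw [hn, map_one, Module.End.one_apply] at h1
    have hc1 : c = 1 :=
      eq_one_of_pow_two_pow (n := n) (smul_left_injective K hf0 (by simpa using h1.symm))
    rw [hc, hc1, one_smul]
  have hTV : ∀ x ∈ cSpan r V f, H.op g (V x) = (V ^ (r - 1)) (H.op g x) := fun x _ => by
    rw [← hV, H.conj_op]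
  have h1 := hPC.clock.le_finrank_image hUf hf0 hTf hTV
  have h2 : (cSpan r V f).map (H.op g - 1) ≤ Submodule.span K {φ} := by
    rw [hfs]
    rintro _ ⟨z, hz, rfl⟩
    obtain ⟨c', hc'⟩ := h z hz
    exact Submodule.mem_span_singleton.mpr ⟨c', hc'.symm⟩
  have h3 := Submodule.finrank_mono h2
  rw [finrank_span_singleton Gr.ne] at h3
  have := (Fact.out : r.Prime).two_le
  have h5 : r ≤ 4 := by omega
  interval_cases r
  · exact absurd rfl hr2
  · rfl
  · exact absurd (Fact.out : Nat.Prime 4) (by decide)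

/-- No plane is moved by the last derived subgroup. -/
theorem fixed_last (hr2 : r ≠ 2) (hs : PlaneDec H.F H.act s) {P : Submodule (ZMod r) X}
    (hP : P ∈ s) {g : G} (hg : g ∈ derivedSeries G (e - 1)) : ∀ a ∈ P, H.act g a ∈ P := by
  intro a ha
  by_contra hmove
  have hall : (H.A P).map (LinearMap.applyₗ φ) ≤ Submodule.span K {φ} := by
    rintro _ ⟨y, hy, rfl⟩
    obtain ⟨c, hc⟩ := Gr.claim P hP e (fun k hk b hb => by
      rw [act_of_op (op_derived Gr k hk)]; exact hb) (Or.inr ⟨g, hg, a, ha, hmove⟩) y hy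
      (by rw [Gr.top]; trivial)
    exact Submodule.mem_span_singleton.mpr ⟨c, hc.symm⟩
  have h1 := Submodule.finrank_mono hall
  rw [finrank_L Gr hr2 hs hP, finrank_span_singleton Gr.ne] at h1
  have := (Fact.out : r.Prime).two_le
  omega

/-- The displacement of a product over two planes. -/
theorem mem_last (hr2 : r ≠ 2) (hs : PlaneDec H.F H.act s) (he : 1 ≤ e)
    {P P' : Submodule (ZMod r) X} (hP : P ∈ s) (hP' : P' ∈ s) (hne : P ≠ P')
    {t : G} (ht : t ∈ derivedSeries G (e - 1)) (htP : ∀ a ∈ P, H.act t a = -a)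
    {y : Module.End K E} (hy : y ∈ H.A P') (hfix : H.op t (y φ) = y φ) : y φ ∈ Kc (e - 1) := by
  obtain ⟨f₀, hf₀, hf₀φ⟩ := Gr.corner P hP
  obtain ⟨a, ha, hat⟩ := hf₀.neg t htP φ hf₀φ (Gr.fix t)
  have h1 := Gr.step (e - 1) t ht ((a * y) φ) (by rw [Nat.sub_add_cancel he, Gr.top]; trivial)
  have hca : H.conj t a ∈ H.A P :=
    H.conj_mem_A t (fun b hb => by rw [htP b hb]; exact neg_mem hb) ha
  have hcom : ∀ w ∈ H.A P, w (y φ) = y (w φ) := fun w hw =>
    LinearMap.congr_fun (H.commute_A (hs.orth P hP P' hP' hne) hw hy).eq φ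
  have heq : H.op t ((a * y) φ) - (a * y) φ = y φ := by
    rw [Module.End.mul_apply, H.conj_apply_fixed a hfix, hcom _ hca, hcom _ ha, ← map_sub,
      ← H.conj_apply_fixed a (Gr.fix t), hat]
  rwa [heq] at h1

/-- When the last derived subgroup acts, the one before it fixes all planes. -/
theorem fixed_before (hr2 : r ≠ 2) (hG : IsPGroup 2 G) (hs : PlaneDec H.F H.act s) (he : 2 ≤ e)
    {P : Submodule (ZMod r) X} (hP : P ∈ s) {x : G} (hx : x ∈ derivedSeries G (e - 1))
    (hxP : ∃ a ∈ P, H.act x a ≠ a) {Q : Submodule (ZMod r) X} (hQ : Q ∈ s) {g : G}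
    (hg : g ∈ derivedSeries G (e - 2)) : ∀ a ∈ Q, H.act g a ∈ Q := by
  obtain ⟨k, hk⟩ := exists_neg hr2 hG hs hP (fixed_last Gr hr2 hs hP hx) hxP
  have ht : x ^ 2 ^ k ∈ derivedSeries G (e - 1) := pow_mem hx _
  suffices key : ∀ Q' ∈ s, P ≠ Q' → ∀ h ∈ derivedSeries G (e - 2), ∀ b ∈ Q', H.act h b ∈ Q' by
    by_cases hPQ : P = Q
    · subst hPQ
      intro a ha
      by_contra hmove
      let Q' := P.map (H.act g).toLinearMap
      have hne : P ≠ Q' := fun h => hmove (h.symm ▸ ⟨a, ha, rfl⟩)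
      have hQ' : Q' ∈ s := hs.perm g P hP
      haveI : FiniteDimensional (ZMod r) Q' := Module.finite_of_finrank_eq_succ (hs.rank Q' hQ')
      refine hne (Submodule.eq_of_le_of_finrank_le (fun b hb => ?_) ?_)
      · have h1 := key Q' hQ' hne g⁻¹ (inv_mem hg) (H.act g b) ⟨b, hb, rfl⟩
        rwa [← act_mul_apply, inv_mul_cancel, map_one] at h1
      · rw [hs.rank Q' hQ', hs.rank P hP]
    · exact key Q hQ hPQ g hg
  intro Q' hQ' hne h hh b hb
  by_contra hmove
  have hgood : e - 1 = 0 ∨ ∃ h ∈ derivedSeries G (e - 1 - 1), ∃ b ∈ Q', H.act h b ∉ Q' :=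
    Or.inr ⟨h, by rwa [show e - 1 - 1 = e - 2 by omega], b, hb, hmove⟩
  have hclaim := Gr.claim Q' hQ' (e - 1) (fun k hk => fixed_last Gr hr2 hs hQ' hk) hgood
  obtain ⟨y, hy, hyfix, hync⟩ := exists_fixed Gr hr2 hs hQ' (g := x ^ 2 ^ k) fun z hz => by
    obtain ⟨y, hy, hy'⟩ := Submodule.sub_mem _ (op_mem Gr (fixed_last Gr hr2 hs hQ' ht) hz) hz
    have hm : y φ ∈ Kc (e - 1) := by
      rw [show y φ = _ from hy']
      exact Gr.step _ _ ht z (by rw [Nat.sub_add_cancel (by omega : 1 ≤ e), Gr.top]; trivial)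
    obtain ⟨c, hc⟩ := hclaim y hy hm
    exact ⟨c, hy'.symm.trans hc⟩
  obtain ⟨c, hc⟩ := hclaim y hy (mem_last Gr hr2 hs (by omega) hP hQ' hne ht hk hy hyfix)
  exact hync c hc

/-- A plane where the last derived subgroup acts: the hypothesis of the claim two steps before. -/
theorem claim_before (hr2 : r ≠ 2) (hG : IsPGroup 2 G) (hs : PlaneDec H.F H.act s) (he : 2 ≤ e)
    {P : Submodule (ZMod r) X} (hP : P ∈ s) {x : G} (hx : x ∈ derivedSeries G (e - 1))
    (hxP : ∃ a ∈ P, H.act x a ≠ a) :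
    ∀ y ∈ H.A P, y φ ∈ Kc (e - 2) → ∃ c : K, y φ = c • φ := by
  refine Gr.claim P hP (e - 2) (fun g hg => fixed_before Gr hr2 hG hs he hP hx hxP hP hg) ?_
  by_contra hcon
  push Not at hcon
  obtain ⟨he2, hfix⟩ := hcon
  obtain ⟨a, ha, hne⟩ := hxP
  refine hne (H58.DL.fix_of_derived_two H.act P (derivedSeries G (e - 2 - 1)) hr2 hG H.F H.act_iso
    (hs.rank P hP) (plane_nondeg hs hP) hfix x ?_ a ha)
  rw [← derivedSeries_succ, ← derivedSeries_succ, show e - 2 - 1 + 1 + 1 = e - 1 by omega]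
  exact hx

/-- Displacements that lie two steps below the top are multiples of the ground vector. -/
theorem small_disp (hr2 : r ≠ 2) (hG : IsPGroup 2 G) (hs : PlaneDec H.F H.act s) (he : 2 ≤ e)
    {P : Submodule (ZMod r) X} (hP : P ∈ s) {x : G} (hx : x ∈ derivedSeries G (e - 1))
    (hxP : ∃ a ∈ P, H.act x a ≠ a) {g : G} (hg : g ∈ derivedSeries G (e - 2)) {z : E}
    (hz : z ∈ (H.A P).map (LinearMap.applyₗ φ)) (hzK : z ∈ Kc (e - 1)) :
    ∃ c : K, H.op g z - z = c • φ := by
  obtain ⟨y, hy, hy'⟩ := Submodule.sub_mem _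
    (op_mem Gr (fixed_before Gr hr2 hG hs he hP hx hxP hP hg) hz) hz
  have hm : y φ ∈ Kc (e - 2) := by
    rw [show y φ = _ from hy']
    exact Gr.step _ g hg z (by rwa [show e - 2 + 1 = e - 1 by omega])
  obtain ⟨c, hc⟩ := claim_before Gr hr2 hG hs he hP hx hxP y hy hm
  exact ⟨c, hy'.symm.trans hc⟩

/-- The last derived subgroup is `±1` on every plane. -/
theorem sq_last (hr2 : r ≠ 2) (hG : IsPGroup 2 G) (hs : PlaneDec H.F H.act s) (he : 2 ≤ e)
    {P : Submodule (ZMod r) X} (hP : P ∈ s) {x : G} (hx : x ∈ derivedSeries G (e - 1)) :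
    (∀ a ∈ P, H.act x a = a) ∨ ∀ a ∈ P, H.act x a = -a := by
  have hxfix := fixed_last Gr hr2 hs hP hx
  refine H58.DL.neg_or_id hr2 H.F P (hs.rank P hP) (plane_nondeg hs hP) (H.act_iso _) hxfix ?_
  by_contra hcon
  push Not at hcon
  obtain ⟨a, ha, hne⟩ := hcon
  have hxP : ∃ a ∈ P, H.act x a ≠ a := ⟨a, ha, fun h => hne (by rw [h, h])⟩
  obtain ⟨k, hk⟩ := exists_neg hr2 hG hs hP (g := x * x)
    (fun b hb => by rw [act_mul_apply]; exact hxfix _ (hxfix b hb))
    ⟨a, ha, by rw [act_mul_apply]; exact hne⟩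
  let q := x ^ 2 ^ k
  have hq : q ∈ derivedSeries G (e - 1) := pow_mem hx _
  have hq2 : q * q = (x * x) ^ 2 ^ k := ((Commute.refl x).mul_pow _).symm
  have hqg : q ∈ derivedSeries G (e - 2) :=
    derivedSeries_antitone G (by omega : e - 2 ≤ e - 1) hq
  have hqfix : ∀ b ∈ P, H.act q b ∈ P := fixed_last Gr hr2 hs hP hq
  have hchar : ∀ v : E, v + v = 0 := fun v => by
    rw [← two_smul K v, CharTwo.two_eq_zero, zero_smul]
  have hr3 : r = 3 := by
    refine eq_three Gr hr2 hG hs hP (g := q * q) (fun b hb => by rw [hq2]; exact hk b hb)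
      fun z hz => ?_
    obtain ⟨c, hc⟩ := small_disp Gr hr2 hG hs he hP hx hxP hqg
      (Submodule.sub_mem _ (op_mem Gr hqfix hz) hz)
      (Gr.step (e - 1) q hq z (by rw [Nat.sub_add_cancel (by omega : 1 ≤ e), Gr.top]; trivial))
    refine ⟨c, ?_⟩
    rw [← hc, map_sub, map_mul, Module.End.mul_apply]
    have := hchar (H.op q z - z)
    rw [← sub_eq_zero]
    calc H.op q (H.op q z) - z - (H.op q (H.op q z) - H.op q z - (H.op q z - z))
        = (H.op q z - z) + (H.op q z - z) := by abel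
      _ = 0 := this
  let S : Subgroup G :=
    { carrier := {g | (∀ b ∈ P, H.act g b = b) ∨ ∀ b ∈ P, H.act g b = -b}
      one_mem' := Or.inl fun b _ => by rw [map_one]; rfl
      mul_mem' := fun {g h} hg hh => by
        rcases hh with hh | hh <;> rcases hg with hg | hg
        · exact Or.inl fun b hb => by rw [act_mul_apply, hh b hb, hg b hb]
        · exact Or.inr fun b hb => by rw [act_mul_apply, hh b hb, hg b hb]
        · exact Or.inr fun b hb => by rw [act_mul_apply, hh b hb, map_neg, hg b hb]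
        · exact Or.inl fun b hb => by rw [act_mul_apply, hh b hb, map_neg, hg b hb, neg_neg]
      inv_mem' := fun {g} hg => by
        rcases hg with hg | hg
        · refine Or.inl fun b hb => ?_
          conv_lhs => rw [← hg b hb]
          rw [← act_mul_apply, inv_mul_cancel, map_one]; rfl
        · refine Or.inr fun b hb => ?_
          have h1 := hg (-b) (neg_mem hb)
          rw [map_neg, neg_neg] at h1
          conv_lhs => rw [← h1]
          rw [map_neg, ← act_mul_apply, inv_mul_cancel, map_one]; rfl }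
  have hsq : ∀ g : G, (∀ b ∈ P, H.act g b ∈ P) → g * g ∈ S := fun g hgP =>
    H58.DL.neg_or_id hr2 H.F P (hs.rank P hP) (plane_nondeg hs hP) (H.act_iso _)
      (fun b hb => by rw [act_mul_apply]; exact hgP _ (hgP b hb)) (pow_four hs hG hr3 hP hgP)
  have hxS : derivedSeries G (e - 1) ≤ S := by
    rw [show e - 1 = e - 2 + 1 by omega, derivedSeries_succ, Subgroup.commutator_le]
    intro g hg h hh
    have hfb := fun {g : G} (hg : g ∈ derivedSeries G (e - 2)) =>
      hsq g (fixed_before Gr hr2 hG hs he hP hx hxP hP hg)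
    rw [show ⁅g, h⁆ = g * g * ((g⁻¹ * h) * (g⁻¹ * h)) * (h⁻¹ * h⁻¹) by
      rw [commutatorElement_def]; group]
    exact mul_mem (mul_mem (hfb hg) (hfb (mul_mem (inv_mem hg) hh))) (hfb (inv_mem hh))
  rcases hxS hx with h | h
  · exact hne (by rw [h a ha, h a ha])
  · exact hne (by rw [h a ha, map_neg, h a ha, neg_neg])

/-- All nontrivial elements of the last derived subgroup have the same planes. -/
theorem same_support (hr2 : r ≠ 2) (hG : IsPGroup 2 G) (hs : PlaneDec H.F H.act s) (he : 2 ≤ e)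
    {P P' : Submodule (ZMod r) X} (hP : P ∈ s) (hP' : P' ∈ s) {x x' : G}
    (hx : x ∈ derivedSeries G (e - 1)) (hx' : x' ∈ derivedSeries G (e - 1))
    (hxP : ∀ a ∈ P, H.act x a = -a) (hxP' : ∀ a ∈ P', H.act x a = a) :
    ∀ a ∈ P', H.act x' a = a := by
  by_contra hcon
  push Not at hcon
  have hne : P ≠ P' := by
    rintro rfl
    obtain ⟨a, ha, ha'⟩ := hcon
    have h1 := hxP a ha
    rw [hxP' a ha] at h1
    exact ha' (by rw [eq_self_of_eq_neg hr2 h1, map_zero])
  let L : Submodule K E := (H.A P').map (LinearMap.applyₗ φ)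
  have hxfix : ∀ y ∈ H.A P', H.op x (y φ) = y φ := fun y hy => by
    obtain ⟨n, hn⟩ := hG x
    rw [H.conj_apply_fixed y (Gr.fix x), H.conj_eq_self hn hxP' hy]
  have hLK : ∀ z ∈ L, z ∈ Kc (e - 1) := by
    rintro _ ⟨y, hy, rfl⟩
    exact mem_last Gr hr2 hs (by omega) hP hP' hne hx hxP hy (hxfix y hy)
  have hd : ∀ g ∈ derivedSeries G (e - 2), ∀ z ∈ L, ∃ c : K, H.op g z - z = c • φ :=
    fun g hg z hz => small_disp Gr hr2 hG hs he hP' hx' hcon hg hz (hLK z hz)
  obtain ⟨f₀, hf₀, hf₀φ⟩ := Gr.corner P' hP'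
  have hx'P : ∀ a ∈ P', H.act x' a = -a :=
    (sq_last Gr hr2 hG hs he hP' hx').resolve_left fun h => by
      obtain ⟨a, ha, ha'⟩ := hcon; exact ha' (h a ha)
  obtain ⟨y, hy, hyne⟩ := hf₀.neg x' hx'P φ hf₀φ (Gr.fix x')
  have htriv : derivedSeries G (e - 1) ≤
      ({ carrier := {g | H.op g (y φ) = y φ}
         one_mem' := by show H.op 1 _ = _; rw [map_one]; rfl
         mul_mem' := fun {g h} hg hh => by
          show H.op (g * h) (y φ) = y φ
          rw [map_mul, Module.End.mul_apply, hh, hg]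
         inv_mem' := fun {g} hg => by
          show H.op g⁻¹ (y φ) = y φ
          conv_lhs => rw [← hg]
          rw [← Module.End.mul_apply, H.op_inv_mul]; rfl } : Subgroup G) := by
    rw [show e - 1 = e - 2 + 1 by omega, derivedSeries_succ, Subgroup.commutator_le]
    intro g hg h hh
    obtain ⟨b, hb⟩ := hd g⁻¹ (inv_mem hg) (y φ) ⟨y, hy, rfl⟩
    obtain ⟨c, hc⟩ := hd h⁻¹ (inv_mem hh) (y φ) ⟨y, hy, rfl⟩
    refine op_comm_fix H ?_
    rw [sub_eq_iff_eq_add.mp hb, sub_eq_iff_eq_add.mp hc, map_add, map_add, map_smul, map_smul,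
      Gr.fix, Gr.fix, sub_eq_iff_eq_add.mp hb, sub_eq_iff_eq_add.mp hc]
    abel
  have h1 : H.op x' (y φ) = y φ := htriv hx'
  rw [h1, sub_self] at hyne
  exact Gr.ne hyne.symm

omit Gr in
theorem conjuncts (hr2 : r ≠ 2) (hG : IsPGroup 2 G) (hs : PlaneDec H.F H.act s) {Kc : ℕ → Submodule K E}
    {φ : E} {e : ℕ} (Gr : Ground H s Kc φ e) (he : 2 ≤ e) :
    (∀ x ∈ derivedSeries G (e - 1), ∀ x' ∈ derivedSeries G (e - 1), H.act x ≠ 1 → H.act x' ≠ 1 →
      H.act x = H.act x') ∧
    (∀ y ∈ derivedSeries G (e - 2), ∀ a ∈ derivedSeries G (e - 2), H.act y ^ 2 = 1 →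
      H.act ⁅y, a⁆ = 1) := by
  have hmove : ∀ x : G, H.act x ≠ 1 → ∃ P ∈ s, ∃ a ∈ P, H.act x a ≠ a := fun x hx => by
    by_contra hcon
    push Not at hcon
    exact hx (act_eq_one hs hcon)
  constructor
  · intro x hx x' hx' hne hne'
    have hd : ∀ P ∈ s, ∀ z ∈ derivedSeries G (e - 1), _ := fun P hP z hz =>
      sq_last Gr hr2 hG hs he hP hz
    have imp : ∀ P ∈ s, ∀ z ∈ derivedSeries G (e - 1), ∀ z' ∈ derivedSeries G (e - 1),
        H.act z' ≠ 1 → (∀ a ∈ P, H.act z' a = a) → ∀ a ∈ P, H.act z a = a := by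
      intro P hP z hz z' hz' hz'ne hfix
      obtain ⟨Q, hQ, hQne⟩ := hmove z' hz'ne
      refine same_support Gr hr2 hG hs he hQ hP hz' hz ?_ hfix
      exact (hd Q hQ z' hz').resolve_left fun h => by
        obtain ⟨a, ha, ha'⟩ := hQne; exact ha' (h a ha)
    rw [← mul_inv_eq_one, ← map_inv, ← map_mul]
    refine act_eq_one hs fun P hP a ha => ?_
    have key : H.act x a = H.act x' a := by
      rcases hd P hP x hx with h | h
      · rw [h a ha, imp P hP x' hx' x hx hne h a ha]
      · rcases hd P hP x' hx' with h' | h'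
        · rw [h' a ha, imp P hP x hx x' hx' hne' h' a ha]
        · rw [h a ha, h' a ha]
    have hiff : ∀ b ∈ P, H.act x b = H.act x' b := fun b hb => by
      rcases hd P hP x hx with h | h
      · rw [h b hb, imp P hP x' hx' x hx hne h b hb]
      · rcases hd P hP x' hx' with h' | h'
        · rw [h' b hb, imp P hP x hx x' hx' hne' h' b hb]
        · rw [h b hb, h' b hb]
    rw [act_mul_apply, hiff _ (by
      have := fixed_last Gr hr2 hs hP (inv_mem hx') a ha
      exact this), ← act_mul_apply, mul_inv_cancel, map_one]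
    rfl
  · intro y hy a ha hy2
    by_contra hne
    obtain ⟨P, hP, hxP⟩ := hmove _ hne
    have hx : ⁅y, a⁆ ∈ derivedSeries G (e - 1) := by
      rw [show e - 1 = e - 2 + 1 by omega, derivedSeries_succ]
      exact Subgroup.commutator_mem_commutator hy ha
    have hfix : ∀ Q ∈ s, ∀ g ∈ derivedSeries G (e - 2), ∀ b ∈ Q, H.act g b ∈ Q := fun Q hQ g hg =>
      fixed_before Gr hr2 hG hs he hP hx hxP hQ hg
    obtain ⟨b, hb, hnb⟩ := hxP
    have hyb : ∀ c ∈ P, H.act y c = c ∨ H.act y c = -c := by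
      intro c hc
      rcases H58.DL.neg_or_id hr2 H.F P (hs.rank P hP) (plane_nondeg hs hP) (H.act_iso y)
        (hfix P hP y hy) (fun d _ => by rw [← LinearEquiv.mul_apply, ← pow_two, hy2]; rfl) with h | h
      · exact Or.inl (h c hc)
      · exact Or.inr (h c hc)
    apply hnb
    have hainv : H.act a⁻¹ b ∈ P := hfix P hP _ (inv_mem ha) b hb
    rcases H58.DL.neg_or_id hr2 H.F P (hs.rank P hP) (plane_nondeg hs hP) (H.act_iso y)
        (hfix P hP y hy) (fun d _ => by rw [← LinearEquiv.mul_apply, ← pow_two, hy2]; rfl) with h | h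
    · have hyinv : ∀ c ∈ P, H.act y⁻¹ c = c := fun c hc => by
        conv_lhs => rw [← h c hc]
        rw [← act_mul_apply, inv_mul_cancel, map_one]; rfl
      rw [commutatorElement_def, act_mul_apply, act_mul_apply, act_mul_apply, hyinv _ hainv,
        h _ (hfix P hP a ha _ hainv), ← act_mul_apply, mul_inv_cancel, map_one]
      rfl
    · have hyinv : ∀ c ∈ P, H.act y⁻¹ c = -c := fun c hc => by
        have h1 := h (-c) (neg_mem hc)
        rw [map_neg, neg_neg] at h1
        conv_lhs => rw [← h1]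
        rw [map_neg, ← act_mul_apply, inv_mul_cancel, map_one]; rfl
      rw [commutatorElement_def, act_mul_apply, act_mul_apply, act_mul_apply, hyinv _ hainv,
        map_neg, h _ (neg_mem (hfix P hP a ha _ hainv)), neg_neg, ← act_mul_apply, mul_inv_cancel,
        map_one]
      rfl

end H51.DL
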