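import Cfsg.Agent.H51.DL.Core
import Cfsg.Agent.H58.DL.Frame

/-!
The local theorem for the bound of the 2-length by the derived length (S4259).
-/

set_option autoImplicit false
set_option linter.all false

namespace H51.DL

open Module H51.Bryu H12.DL
open scoped commutatorElement

universe u v w x

/-- The three facts about the last derived subgroups of a chain on a Heisenberg module. -/
theorem local_core {r : ℕ} [Fact r.Prime] (hr2 : r ≠ 2) {K : Type v} [Field K] [CharP K 2]
    [IsAlgClosed K] {X : Type w} [AddCommGroup X] [Module (ZMod r) X] [Finite X] {E : Type x}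
    [AddCommGroup E] [Module K E] [FiniteDimensional K E] [Nontrivial E] {G : Type u} [Group G]
    [Finite G] (hG : IsPGroup 2 G) (H : Heis r K X E G) (e : ℕ) (he : 1 ≤ e) (V : ℕ → Submodule K E)
    (hV : DerivedChain H.op e V) :
    (∀ x ∈ derivedSeries G (e - 1), ∀ x' ∈ derivedSeries G (e - 1), H.act x ≠ 1 → H.act x' ≠ 1 →
      H.act x = H.act x') ∧ (e = 1 → ∀ x, H.act x = 1) ∧
    (2 ≤ e → ∀ y ∈ derivedSeries G (e - 2), ∀ a ∈ derivedSeries G (e - 2), H.act y ^ 2 = 1 →
      H.act ⁅y, a⁆ = 1) := by
  classical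
  obtain ⟨s, hs⟩ := H58.DL.exists_planeDec hr2 hG H.F H.act H.act_iso
  have hs' := Heis.dual_planeDec hs
  haveI : Nontrivial (Module.Dual K E) := by
    refine (Module.finrank_pos_iff (R := K)).mp ?_
    rw [Subspace.dual_finrank_eq]
    exact Module.finrank_pos
  obtain ⟨W⟩ := exists_frame H.dual hr2 hG hs'
  obtain ⟨h0, htop, hstep⟩ := Heis.dual_chain hV
  have Gr : Ground H.dual s (fun j => (V j).dualAnnihilator) W.phi e :=
    { ne := W.ne_zero
      fix := W.op_fix
      bot := h0
      top := htop
      step := hstep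
      corner := fun P hP => ⟨W.f P, W.corner P hP, W.fix P hP⟩
      claim := fun P hP j _ hgood y hy hyK => by
        refine W.chain_fixed hG (fun j => (V j).dualAnnihilator) h0 hstep hP ?_ hy hyK
        rcases hgood with h | ⟨g, hg, a, ha, hna⟩
        · exact Or.inl h
        · exact Or.inr ⟨g, hg, fun hP' => hna (hP'.le ⟨a, ha, rfl⟩)⟩ }
  rcases eq_or_lt_of_le he with he1 | he2
  · have h1 : ∀ x, H.act x = 1 := fun x => by
      refine act_of_op (H := H) (LinearMap.ext fun v => ?_)
      have h := hV.step 0 x (by rw [derivedSeries_zero]; trivial) v (by rw [hV.top]; trivial)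
      rw [zero_add, show (1 : ℕ) = e from he1, hV.bot, Submodule.mem_bot, sub_eq_zero] at h
      exact h
    exact ⟨fun x _ x' _ hne => absurd (h1 x) hne, fun _ => h1, fun h => absurd h (by omega)⟩
  · have h2 := conjuncts hr2 hG hs' Gr he2
    exact ⟨h2.1, fun h => absurd h (by omega), fun _ => h2.2⟩

end H51.DL
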